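import Cfsg.Agent.CoThreeRecog.CertV1.Steps0

/-!
Generated coset enumeration certificate: validity.
-/

set_option autoImplicit false
set_option maxRecDepth 20000
set_option linter.style.longLine false

namespace Cfsg.Lib.CoThreeRecog.CertV1

open Cfsg.Lib.CosetCert
open Cfsg.Lib.McLRecog (Piece fin_length)

theorem steps_ok : Piece cert spec.length 0 930 (part0) :=
  part0_ok

theorem tab0 : cert.tabPart 930 0 1 = true := by decide +kernel

theorem rots_ok : cert.rotsOK rels spec = true := by decide +kernel

theorem valid : cert.Valid rels :=
  steps_ok.valid (by decide) rots_ok (by decide +kernel) tab0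

theorem fin_len : cert.fin.length = 1 := fin_length cert

end Cfsg.Lib.CoThreeRecog.CertV1
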